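import Groth.Agent.RedPts82.SmoothTransporter
import Mathlib.AlgebraicGeometry.Morphisms.Smooth

/-!
Families of homomorphisms from `G_m` to a group `G` over a base `B`, parametrised by a `B`-scheme `T`,
written as morphisms `T ⊗ G_m ⟶ G`, and their transporters.
-/

set_option autoImplicit false
universe u

open CategoryTheory MonoidalCategory CartesianMonoidalCategory MonObj GrpObj AlgebraicGeometry
open Groth.Agent.RedPts82

namespace Groth.Agent.Instab37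

noncomputable section

variable {B : Scheme.{u}}

section Points

variable {T : Over B}

/-- The structural `T`-point of a scheme over `T`, seen over `B`. -/
def ptT (T : Over B) (Z : Over T.left) : (Over.map T.hom).obj Z ⟶ T := Over.homMk Z.hom rfl

theorem map_comp_ptT {Z Z' : Over T.left} (x : Z' ⟶ Z) : (Over.map T.hom).map x ≫ ptT T Z = ptT T Z' :=
  Over.OverMorphism.ext (Over.w x)

/-- Every point of `T` comes from a scheme over `T`, and so do all points with the same source. -/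
theorem exists_section {Y : Over B} (b : Y ⟶ T) :
    ∃ (Z : Over T.left) (e : Y ⟶ (Over.map T.hom).obj Z), IsIso e ∧ e ≫ ptT T Z = b ∧
      (∀ {C : Over T.left} (y : Y ⟶ (Over.map T.hom).obj C), y ≫ ptT T C = b →
        ∃ x : Z ⟶ C, e ≫ (Over.map T.hom).map x = y) ∧
      ∀ {P : Over B} (p : Y ⟶ P), ∃ x : Z ⟶ Red.bc T.hom P, e ≫ toBase T.hom x = p := by
  let Z : Over T.left := Over.mk b.left
  let e : Y ⟶ (Over.map T.hom).obj Z := Over.homMk (𝟙 Y.left) ((Category.id_comp _).trans (Over.w b))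
  let e' : (Over.map T.hom).obj Z ⟶ Y := Over.homMk (𝟙 Y.left) ((Category.id_comp _).trans (Over.w b).symm)
  refine ⟨Z, e, ⟨⟨e', Over.OverMorphism.ext (Category.id_comp _), Over.OverMorphism.ext (Category.id_comp _)⟩⟩,
    Over.OverMorphism.ext (Category.id_comp _),
    fun {C} y hy => ⟨Over.homMk y.left (congrArg CommaMorphism.left hy), Over.OverMorphism.ext (Category.id_comp _)⟩,
    fun {P} p => ⟨ofBase T.hom (e' ≫ p), ?_⟩⟩
  rw [toBase_ofBase, ← Category.assoc]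
  have he : e ≫ e' = 𝟙 Y := Over.OverMorphism.ext (Category.id_comp _)
  rw [he, Category.id_comp]

end Points

variable {G : Over B} [GrpObj G]

/-- A family of homomorphisms `G_m → G` parametrised by `T`. -/
def IsFam {T : Over B} (Φ : T ⊗ Red.Gm B ⟶ G) : Prop :=
  ∀ {Y : Over B} (b : Y ⟶ T) (p q : Y ⟶ Red.Gm B),
    lift b (p * q) ≫ Φ = (lift b p ≫ Φ) * (lift b q ≫ Φ)

theorem isFam_comp {T T' : Over B} (t : T' ⟶ T) {Φ : T ⊗ Red.Gm B ⟶ G} (hΦ : IsFam Φ) :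
    IsFam ((t ▷ Red.Gm B) ≫ Φ) := fun b p q => by
  simp only [lift_whiskerRight_assoc]
  exact hΦ _ p q

/-- `g` conjugates `Φ₁` into `Φ₂` along `b`. -/
def Conj {Y : Over B} {T₁ T₂ : Over B} (Φ₁ : T₁ ⊗ Red.Gm B ⟶ G) (Φ₂ : T₂ ⊗ Red.Gm B ⟶ G)
    (b₁ : Y ⟶ T₁) (b₂ : Y ⟶ T₂) (g : Y ⟶ G) : Prop :=
  ∀ (Y' : Over B) (y : Y' ⟶ Y) (p : Y' ⟶ Red.Gm B),
    (y ≫ g) * (lift (y ≫ b₁) p ≫ Φ₁) * (y ≫ g)⁻¹ = lift (y ≫ b₂) p ≫ Φ₂

theorem Conj.comp {Y Y₁ T₁ T₂ : Over B} {Φ₁ : T₁ ⊗ Red.Gm B ⟶ G} {Φ₂ : T₂ ⊗ Red.Gm B ⟶ G}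
    {b₁ : Y ⟶ T₁} {b₂ : Y ⟶ T₂} {g : Y ⟶ G} (h : Conj Φ₁ Φ₂ b₁ b₂ g) (z : Y₁ ⟶ Y) :
    Conj Φ₁ Φ₂ (z ≫ b₁) (z ≫ b₂) (z ≫ g) := fun Y' y p => by
  simpa only [Category.assoc] using h Y' (y ≫ z) p

theorem Conj.trans {Y T₁ T₂ T₃ : Over B} {Φ₁ : T₁ ⊗ Red.Gm B ⟶ G} {Φ₂ : T₂ ⊗ Red.Gm B ⟶ G}
    {Φ₃ : T₃ ⊗ Red.Gm B ⟶ G} {b₁ : Y ⟶ T₁} {b₂ : Y ⟶ T₂} {b₃ : Y ⟶ T₃} {g g' : Y ⟶ G}
    (h : Conj Φ₁ Φ₂ b₁ b₂ g) (h' : Conj Φ₂ Φ₃ b₂ b₃ g') : Conj Φ₁ Φ₃ b₁ b₃ (g' * g) := fun Y' y p => by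
  rw [← h' Y' y p, ← h Y' y p, MonObj.comp_mul, _root_.mul_inv_rev]
  simp only [_root_.mul_assoc]

theorem Conj.refl {Y T : Over B} (Φ : T ⊗ Red.Gm B ⟶ G) (b : Y ⟶ T) : Conj Φ Φ b b 1 := fun Y' y p => by
  rw [MonObj.comp_one, _root_.one_mul, inv_one, _root_.mul_one]

/-- Homomorphisms over `T` give families. -/
theorem exists_fam (T : Over B) (φ : Red.bc T.hom (Red.Gm B) ⟶ Red.bc T.hom G) [IsMonHom φ] :
    ∃ Φ : T ⊗ Red.Gm B ⟶ G, IsFam Φ ∧ ∀ (Z : Over T.left) (x : Z ⟶ Red.bc T.hom (Red.Gm B)),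
      lift (ptT T Z) (toBase T.hom x) ≫ Φ = toBase T.hom (x ≫ φ) := by
  obtain ⟨Z₀, e₀, -, he₁, -, hsurj⟩ := exists_section (fst T (Red.Gm B))
  obtain ⟨x₀, he₂⟩ := hsurj (snd T (Red.Gm B))
  have key : ∀ (Z : Over T.left) (x : Z ⟶ Red.bc T.hom (Red.Gm B)),
      lift (ptT T Z) (toBase T.hom x) ≫ e₀ ≫ toBase T.hom (x₀ ≫ φ) = toBase T.hom (x ≫ φ) := by
    intro Z x
    let m : (Over.map T.hom).obj Z ⟶ (Over.map T.hom).obj Z₀ := lift (ptT T Z) (toBase T.hom x) ≫ e₀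
    have hm : m ≫ ptT T Z₀ = ptT T Z := by rw [Category.assoc, he₁, lift_fst]
    let z : Z ⟶ Z₀ := Over.homMk m.left (congrArg CommaMorphism.left hm)
    have hzm : (Over.map T.hom).map z = m := Over.OverMorphism.ext rfl
    have hzx : z ≫ x₀ = x := toBase_injective _ (by rw [toBase_comp, hzm, Category.assoc, he₂, lift_snd])
    rw [← hzx, Category.assoc z x₀ φ, toBase_comp T.hom z (x₀ ≫ φ), hzm]
    simp only [m, hzx, Category.assoc]
  refine ⟨e₀ ≫ toBase T.hom (x₀ ≫ φ), fun {Y} b p q => ?_, key⟩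
  obtain ⟨Z, e, -, hb, -, hs⟩ := exists_section b
  obtain ⟨x, hx⟩ := hs p
  obtain ⟨x', hx'⟩ := hs q
  have key' : ∀ x' : Z ⟶ Red.bc T.hom (Red.Gm B),
      lift b (e ≫ toBase T.hom x') ≫ e₀ ≫ toBase T.hom (x₀ ≫ φ) = e ≫ toBase T.hom (x' ≫ φ) := fun x' => by
    rw [← key Z x', ← hb, ← comp_lift]
    simp only [Category.assoc]
  rw [← hx, ← hx', ← MonObj.comp_mul, ← toBase_mul, key', key', key', MonObj.mul_comp, toBase_mul, MonObj.comp_mul]

omit [GrpObj G] in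
/-- Base change in two steps is base change. -/
theorem exists_bcBcIso {W X A : Scheme.{u}} (w : W ⟶ X) (v : X ⟶ A) (t : W ⟶ A) (h : w ≫ v = t)
    (P : Over A) [GrpObj P] : Nonempty (Grp.mk (Red.bc w (Red.bc v P)) ≅ Grp.mk (Red.bc t P)) := by
  subst h
  let c : ∀ Z : Over W, (Over.map v).obj ((Over.map w).obj Z) ⟶ (Over.map (w ≫ v)).obj Z := fun Z =>
    Over.homMk (𝟙 Z.left) ((Category.id_comp _).trans (Category.assoc _ _ _).symm)
  let c' : ∀ Z : Over W, (Over.map (w ≫ v)).obj Z ⟶ (Over.map v).obj ((Over.map w).obj Z) := fun Z =>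
    Over.homMk (𝟙 Z.left) ((Category.id_comp _).trans (Category.assoc _ _ _))
  have hcc : ∀ Z, c Z ≫ c' Z = 𝟙 _ := fun Z => Over.OverMorphism.ext (Category.id_comp _)
  have hcc' : ∀ Z, c' Z ≫ c Z = 𝟙 _ := fun Z => Over.OverMorphism.ext (Category.id_comp _)
  have hnat : ∀ {Z Z' : Over W} (x : Z' ⟶ Z),
      (Over.map (w ≫ v)).map x ≫ c' Z = c' Z' ≫ (Over.map v).map ((Over.map w).map x) := fun x =>
    Over.OverMorphism.ext ((Category.comp_id _).trans (Category.id_comp _).symm)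
  have hnat' : ∀ {Z Z' : Over W} (x : Z' ⟶ Z),
      (Over.map v).map ((Over.map w).map x) ≫ c Z = c Z' ≫ (Over.map (w ≫ v)).map x := fun x =>
    Over.OverMorphism.ext ((Category.comp_id _).trans (Category.id_comp _).symm)
  let θ : Red.bc w (Red.bc v P) ⟶ Red.bc (w ≫ v) P := ofBase (w ≫ v) (c' _ ≫ toBase v (toBase w (𝟙 _)))
  let θ' : Red.bc (w ≫ v) P ⟶ Red.bc w (Red.bc v P) := ofBase w (ofBase v (c _ ≫ toBase (w ≫ v) (𝟙 _)))
  have h₁ : ∀ {Z : Over W} (x : Z ⟶ Red.bc w (Red.bc v P)),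
      toBase (w ≫ v) (x ≫ θ) = c' Z ≫ toBase v (toBase w x) := fun {Z} x => by
    rw [toBase_comp, toBase_ofBase, ← Category.assoc, hnat, Category.assoc, ← toBase_comp, ← toBase_comp, Category.comp_id]
  have h₂ : ∀ {Z : Over W} (y : Z ⟶ Red.bc (w ≫ v) P),
      toBase v (toBase w (y ≫ θ')) = c Z ≫ toBase (w ≫ v) y := fun {Z} y => by
    rw [toBase_comp, toBase_ofBase, toBase_comp, toBase_ofBase, ← Category.assoc, hnat', Category.assoc, ← toBase_comp,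
      Category.comp_id]
  haveI : IsMonHom θ := isMonHom_of_points _ fun Z x y => toBase_injective _ (by
    rw [toBase_mul, h₁, h₁, h₁, toBase_mul, toBase_mul, MonObj.comp_mul])
  haveI : IsMonHom θ' := isMonHom_of_points _ fun Z x y => toBase_injective _ (toBase_injective v (by
    rw [toBase_mul, toBase_mul, h₂, h₂, h₂, toBase_mul, MonObj.comp_mul]))
  have e₁ : θ ≫ θ' = 𝟙 _ := toBase_injective _ (toBase_injective v (by
    have := h₁ (𝟙 (Red.bc w (Red.bc v P)))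
    rw [Category.id_comp] at this
    rw [h₂, this, ← Category.assoc, hcc, Category.id_comp]))
  have e₂ : θ' ≫ θ = 𝟙 _ := toBase_injective _ (by
    have := h₂ (𝟙 (Red.bc (w ≫ v) P))
    rw [Category.id_comp] at this
    rw [h₁, this, ← Category.assoc, hcc', Category.id_comp])
  let i : Red.bc w (Red.bc v P) ≅ Red.bc (w ≫ v) P := ⟨θ, θ', e₁, e₂⟩
  haveI : IsMonHom i.hom := ‹IsMonHom θ›
  exact ⟨Grp.mkIso' i⟩

omit [GrpObj G] in
theorem isMultType_bc_gm (T : Over B) : IsMultType (Red.bc T.hom (Red.Gm B)) := by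
  refine ⟨T.left, 𝟙 _, inferInstance, inferInstance, fun V hV => ⟨V, hV.isCompact, by simp⟩,
    fun t => ⟨⊤, trivial, ℤ, inferInstance, ?_⟩⟩
  obtain ⟨i₁⟩ := exists_bcBcIso T.hom (Limits.IsTerminal.from specULiftZIsTerminal B)
    (Limits.IsTerminal.from specULiftZIsTerminal T.left) (specULiftZIsTerminal.hom_ext _ _) (Red.diag (ULift.{u} ℤ) ℤ)
  obtain ⟨i₂⟩ := exists_bcBcIso ((⊤ : T.left.Opens).ι ≫ 𝟙 _) (Limits.IsTerminal.from specULiftZIsTerminal T.left)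
    (Limits.IsTerminal.from specULiftZIsTerminal _) (specULiftZIsTerminal.hom_ext _ _) (Red.diag (ULift.{u} ℤ) ℤ)
  exact ⟨(Over.pullback ((⊤ : T.left.Opens).ι ≫ 𝟙 _)).mapGrp.mapIso i₁ ≪≫ i₂⟩

/-- Families give homomorphisms over the parameter space. -/
theorem exists_hom {T : Over B} {Φ : T ⊗ Red.Gm B ⟶ G} (hΦ : IsFam Φ) :
    ∃ u : Red.bc T.hom (Red.Gm B) ⟶ Red.bc T.hom G, IsMonHom u ∧
      ∀ (Z : Over T.left) (x : Z ⟶ Red.bc T.hom (Red.Gm B)),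
        toBase T.hom (x ≫ u) = lift (ptT T Z) (toBase T.hom x) ≫ Φ := by
  let u : Red.bc T.hom (Red.Gm B) ⟶ Red.bc T.hom G :=
    ofBase T.hom (lift (ptT T _) (toBase T.hom (𝟙 _)) ≫ Φ)
  have h : ∀ (Z : Over T.left) (x : Z ⟶ Red.bc T.hom (Red.Gm B)),
      toBase T.hom (x ≫ u) = lift (ptT T Z) (toBase T.hom x) ≫ Φ := fun Z x => by
    rw [toBase_comp, toBase_ofBase, comp_lift_assoc, map_comp_ptT, ← toBase_comp, Category.comp_id]
  exact ⟨u, isMonHom_of_points u fun Z x y => toBase_injective _ (by rw [toBase_mul, h, h, h, toBase_mul, hΦ]), h⟩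

/-- The transporter of two families. -/
theorem exists_transporter [Smooth G.hom] [IsAffineHom G.hom] {T : Over B} (Φ₁ Φ₂ : T ⊗ Red.Gm B ⟶ G)
    (h₁ : IsFam Φ₁) (h₂ : IsFam Φ₂) :
    ∃ (C : Over B) (c : C ⟶ T) (γ : C ⟶ G), Smooth c.left ∧ Conj Φ₁ Φ₂ c c γ ∧
      ∀ (Y : Over B) (b : Y ⟶ T) (g : Y ⟶ G), Conj Φ₁ Φ₂ b b g → ∃ z : Y ⟶ C, z ≫ c = b := by
  obtain ⟨u, hu, hu'⟩ := exists_hom h₁
  obtain ⟨v, hv, hv'⟩ := exists_hom h₂
  haveI : Smooth (Red.bc T.hom G).hom := inferInstanceAs (Smooth (Limits.pullback.snd G.hom T.hom))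
  haveI := isAffineHom_isStableUnderBaseChange.{u}
  haveI : IsAffineHom (Red.bc T.hom G).hom :=
    MorphismProperty.of_isPullback (P := @IsAffineHom.{u}) (IsPullback.of_hasPullback G.hom T.hom) inferInstance
  obtain ⟨C, c, -, hsm, hC⟩ := exists_smooth_transporter (isMultType_bc_gm T) u v
  refine ⟨(Over.map T.hom).obj C, ptT T C, toBase T.hom c, hsm, fun Y' y p => ?_, fun Y b g hg => ?_⟩
  · obtain ⟨Z, e, -, he, hy, hs⟩ := exists_section (y ≫ ptT T C)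
    obtain ⟨h, hh⟩ := hs p
    obtain ⟨x, hx⟩ := hy y rfl
    have := congrArg (fun w => e ≫ toBase T.hom w) ((hC C c).1 ⟨𝟙 _, Category.id_comp _⟩ Z x h)
    simp only [toBase_mul, toBase_inv, hu', hv', MonObj.comp_mul, GrpObj.comp_inv, comp_lift_assoc, he, hh] at this
    rwa [toBase_comp, ← Category.assoc, hx] at this
  · obtain ⟨Z, e, he', he, -, hs⟩ := exists_section b
    obtain ⟨g', hg'⟩ := hs g
    obtain ⟨z, hz⟩ := (hC Z g').2 fun X' x h => toBase_injective _ (by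
      haveI := he'
      have := hg _ ((Over.map T.hom).map x ≫ inv e) (toBase T.hom h)
      have h1 : ((Over.map T.hom).map x ≫ inv e) ≫ b = ptT T X' := by
        rw [← he, Category.assoc, IsIso.inv_hom_id_assoc, map_comp_ptT]
      have h2 : ((Over.map T.hom).map x ≫ inv e) ≫ g = toBase T.hom (x ≫ g') := by
        rw [← hg', Category.assoc, IsIso.inv_hom_id_assoc, toBase_comp]
      rw [h1, h2] at this
      simpa only [toBase_mul, toBase_inv, hu', hv'] using this)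
    exact ⟨e ≫ (Over.map T.hom).map z, by rw [Category.assoc, map_comp_ptT, he]⟩

end
end Groth.Agent.Instab37
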