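import Groth.Prelude.Def_GmAct
import Mathlib.AlgebraicGeometry.Morphisms.Separated
import Mathlib.AlgebraicGeometry.Morphisms.ClosedImmersion
import Mathlib.RingTheory.TensorProduct.Maps
import Mathlib.Algebra.Polynomial.Basis

/-! The multiplicative group is schematically dense in the affine line, universally; equivariant families on the line. -/

set_option autoImplicit false
universe u

noncomputable section

namespace Groth.Agent.Instab37

open CategoryTheory CategoryTheory.Limits MonoidalCategory CartesianMonoidalCategory MonObj AlgebraicGeometry Opposite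
open scoped TensorProduct Polynomial

variable {R : Type u} [CommRing R]

/-- As in `CoactBr`: the library's braided structure on `Spec`, file-locally at this spelling. -/
local instance braidedAlgSpecOf (R : Type u) [CommRing R] : (algSpec (CommRingCat.of R)).Braided :=
  braidedAlgSpec

/-- Morphisms to a separated scheme from an affine one agree if they agree after an injective ring map. -/
theorem eq_of_pt_comp {B C : Type u} [CommRing B] [Algebra R B] [CommRing C] [Algebra R C] (φ : B →ₐ[R] C)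
    (hφ : Function.Injective φ) {X : Over (Spec (CommRingCat.of R))} [IsSeparated X.hom] (u v : CoactBr.sp R B ⟶ X)
    (h : CoactBr.pt φ ≫ u = CoactBr.pt φ ≫ v) : u = v := by
  let e := equalizer.ι u v
  have he : (equalizer.lift (CoactBr.pt φ) h).left ≫ e.left = Spec.map (CommRingCat.ofHom φ.toRingHom) := by
    rw [← Over.comp_left, equalizer.lift_ι]
    rfl
  have hinj : Function.Injective e.left.appTop := by
    intro a b hab
    have h1 : ((equalizer.lift (CoactBr.pt φ) h).left ≫ e.left).appTop a =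
        ((equalizer.lift (CoactBr.pt φ) h).left ≫ e.left).appTop b := by
      rw [Scheme.Hom.comp_appTop, ConcreteCategory.comp_apply, ConcreteCategory.comp_apply, hab]
    rw [he] at h1
    have h2 : (φ.toRingHom ((Scheme.ΓSpecIso (CommRingCat.of B)).hom a)) = φ.toRingHom ((Scheme.ΓSpecIso (CommRingCat.of B)).hom b) := by
      have hn := fun z => ConcreteCategory.congr_hom (Scheme.ΓSpecIso_naturality (CommRingCat.ofHom φ.toRingHom)) z
      exact ((hn a).symm.trans (congr_arg (Scheme.ΓSpecIso (CommRingCat.of C)).hom h1)).trans (hn b)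
    exact (Scheme.ΓSpecIso (CommRingCat.of B)).commRingCatIsoToRingEquiv.injective (hφ h2)
  have : IsAffine (CoactBr.sp R B).left := inferInstanceAs (IsAffine (Spec _))
  haveI : IsIso e.left := IsClosedImmersion.isIso_of_injective_of_isAffine hinj
  refine Over.OverMorphism.ext ?_
  rw [← cancel_epi e.left, ← Over.comp_left, ← Over.comp_left, equalizer.condition]

/-- The inclusion of `G_m` into the line. -/
def jMap (R : Type u) [CommRing R] : R[X] →ₐ[R] ThetaS.Lau R := ThetaS.linePt (ThetaS.zPow R 1)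

theorem jMap_injective_baseChange (B : Type u) [CommRing B] [Algebra R B] :
    Function.Injective (Algebra.TensorProduct.map (jMap R) (AlgHom.id R B)) := by
  let r : ThetaS.Lau R →ₗ[R] R[X] := (MonoidAlgebra.basis (Multiplicative ℤ) R).constr R fun z =>
    if 0 ≤ Multiplicative.toAdd z then (Polynomial.X : R[X]) ^ (Multiplicative.toAdd z).toNat else 0
  have hr : r.comp (jMap R).toLinearMap = LinearMap.id := by
    refine (Polynomial.basisMonomials R).ext fun k => ?_
    have h1 : jMap R ((Polynomial.basisMonomials R) k) =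
        MonoidAlgebra.single (Multiplicative.ofAdd (k : ℤ)) (1 : R) := by
      simp only [jMap, ThetaS.linePt, Polynomial.coe_basisMonomials, Polynomial.monomial_one_right_eq_X_pow, map_pow,
        Polynomial.aeval_X, MonoidAlgebra.single_pow, one_pow, ← ofAdd_nsmul, nsmul_eq_mul]
      rw [_root_.mul_one]
    rw [LinearMap.comp_apply, AlgHom.toLinearMap_apply, h1, ← MonoidAlgebra.basis_apply, LinearMap.id_apply]
    simp only [r, Module.Basis.constr_basis, toAdd_ofAdd, Nat.cast_nonneg, if_true,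
      Int.toNat_natCast, Polynomial.coe_basisMonomials, Polynomial.monomial_one_right_eq_X_pow]
  refine Function.LeftInverse.injective (g := TensorProduct.map r LinearMap.id) fun x => ?_
  show TensorProduct.map r LinearMap.id (TensorProduct.map (jMap R).toLinearMap LinearMap.id x) = x
  rw [← LinearMap.comp_apply, ← TensorProduct.map_comp, hr, LinearMap.id_comp, TensorProduct.map_id, LinearMap.id_apply]

/-- The pair of the two coprojections is an isomorphism `Spec (B ⊗ C) ≅ Spec B × Spec C`. -/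
theorem isIso_pair (B C : Type u) [CommRing B] [Algebra R B] [CommRing C] [Algebra R C] :
    IsIso (lift (CoactBr.pt (Algebra.TensorProduct.includeLeft : B →ₐ[R] B ⊗[R] C))
      (CoactBr.pt (Algebra.TensorProduct.includeRight : C →ₐ[R] B ⊗[R] C))) := by
  have h := CoactBr.lift_pt_pt (R := R) (Algebra.TensorProduct.includeLeft : B →ₐ[R] B ⊗[R] C)
    (Algebra.TensorProduct.includeRight : C →ₐ[R] B ⊗[R] C)
  rw [show Algebra.TensorProduct.lift (Algebra.TensorProduct.includeLeft : B →ₐ[R] B ⊗[R] C)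
      (Algebra.TensorProduct.includeRight : C →ₐ[R] B ⊗[R] C) (fun _ _ => .all _ _) = AlgHom.id R _ from
      Algebra.TensorProduct.ext' fun b c => by simp, CoactBr.pt_id] at h
  have hμ : IsIso (Functor.LaxMonoidal.μ (algSpec (CommRingCat.of R)) (op (CommAlgCat.of R B)) (op (CommAlgCat.of R C))) :=
    (Functor.Monoidal.μIso (algSpec (CommRingCat.of R)) (op (CommAlgCat.of R B)) (op (CommAlgCat.of R C))).isIso_hom
  have hc : IsIso (lift (CoactBr.pt (Algebra.TensorProduct.includeLeft : B →ₐ[R] B ⊗[R] C))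
      (CoactBr.pt (Algebra.TensorProduct.includeRight : C →ₐ[R] B ⊗[R] C)) ≫
      Functor.LaxMonoidal.μ (algSpec (CommRingCat.of R)) (op (CommAlgCat.of R B)) (op (CommAlgCat.of R C))) := by
    rw [h]; exact IsIso.id _
  exact @IsIso.of_isIso_comp_right _ _ _ _ _ _ _ hμ hc

variable {X : Over (Spec (CommRingCat.of R))} [IsSeparated X.hom]

/-- The morphism `G_m → A¹`. -/
abbrev jLine (R : Type u) [CommRing R] : ThetaS.Gm R ⟶ ThetaS.Line R :=
  (CoactBr.pt (ThetaS.linePt (ThetaS.zPow R 1)) : ThetaS.Gm R ⟶ ThetaS.Line R)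

theorem cancel_jLine_affine (B : Type u) [CommRing B] [Algebra R B] (u v : ThetaS.Line R ⊗ CoactBr.sp R B ⟶ X)
    (h : jLine R ▷ CoactBr.sp R B ≫ u = jLine R ▷ CoactBr.sp R B ≫ v) : u = v := by
  haveI := isIso_pair (R := R) R[X] B
  rw [← cancel_epi (lift (CoactBr.pt (Algebra.TensorProduct.includeLeft : R[X] →ₐ[R] R[X] ⊗[R] B))
      (CoactBr.pt (Algebra.TensorProduct.includeRight : B →ₐ[R] R[X] ⊗[R] B)))]
  refine eq_of_pt_comp _ (jMap_injective_baseChange B) _ _ ?_
  rw [← Category.assoc, ← Category.assoc]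
  have key : CoactBr.pt (Algebra.TensorProduct.map (jMap R) (AlgHom.id R B)) ≫
      lift (CoactBr.pt (Algebra.TensorProduct.includeLeft : R[X] →ₐ[R] R[X] ⊗[R] B))
        (CoactBr.pt (Algebra.TensorProduct.includeRight : B →ₐ[R] R[X] ⊗[R] B)) =
      lift (CoactBr.pt (Algebra.TensorProduct.includeLeft : ThetaS.Lau R →ₐ[R] ThetaS.Lau R ⊗[R] B))
        (CoactBr.pt (Algebra.TensorProduct.includeRight : B →ₐ[R] ThetaS.Lau R ⊗[R] B)) ≫ (jLine R ▷ CoactBr.sp R B) := by
    rw [comp_lift, lift_whiskerRight, ← CoactBr.pt_comp, ← CoactBr.pt_comp, jLine, ← CoactBr.pt_comp]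
    congr 2
    · exact AlgHom.ext fun x => by simp [jMap]
  rw [key, Category.assoc, Category.assoc, h]

set_option maxHeartbeats 1000000 in
theorem cancel_jLine (T : Over (Spec (CommRingCat.of R))) (u v : ThetaS.Line R ⊗ T ⟶ X)
    (h : jLine R ▷ T ≫ u = jLine R ▷ T ≫ v) : u = v := by
  refine Over.OverMorphism.ext ?_
  let 𝒰 := T.left.affineCover
  refine Scheme.Cover.hom_ext (𝒰.pullback₁ (snd (ThetaS.Line R) T).left) _ _ fun (i : 𝒰.I₀) => ?_
  haveI : IsAffine (𝒰.X i) := inferInstanceAs (IsAffine (Spec _))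
  obtain ⟨φ, hφ⟩ := Spec.map_surjective ((Scheme.isoSpec (𝒰.X i)).inv ≫ 𝒰.f i ≫ T.hom)
  letI : Algebra R Γ(𝒰.X i, ⊤) := φ.hom.toAlgebra
  let inc : CoactBr.sp R Γ(𝒰.X i, ⊤) ⟶ T :=
    Over.homMk ((Scheme.isoSpec (𝒰.X i)).inv ≫ 𝒰.f i) ((Category.assoc _ _ _).trans hφ.symm)
  have hi := cancel_jLine_affine Γ(𝒰.X i, ⊤) (ThetaS.Line R ◁ inc ≫ u) (ThetaS.Line R ◁ inc ≫ v) (by
    rw [← whisker_exchange_assoc, h, whisker_exchange_assoc])
  let Z : Over (Spec (CommRingCat.of R)) :=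
    Over.mk (pullback.fst (snd (ThetaS.Line R) T).left (𝒰.f i) ≫ (ThetaS.Line R ⊗ T).hom)
  let pf : Z ⟶ ThetaS.Line R ⊗ T := Over.homMk (pullback.fst (snd (ThetaS.Line R) T).left (𝒰.f i)) rfl
  let qT : Z ⟶ CoactBr.sp R Γ(𝒰.X i, ⊤) :=
    Over.homMk (pullback.snd (snd (ThetaS.Line R) T).left (𝒰.f i) ≫ (Scheme.isoSpec (𝒰.X i)).hom) (by
      show (pullback.snd _ _ ≫ (Scheme.isoSpec (𝒰.X i)).hom) ≫ Spec.map φ = pullback.fst _ _ ≫ _
      rw [hφ, Category.assoc, Iso.hom_inv_id_assoc, ← pullback.condition_assoc, Over.w])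
  have hq : qT ≫ inc = pf ≫ snd _ _ := by
    refine Over.OverMorphism.ext ?_
    show (pullback.snd _ _ ≫ (Scheme.isoSpec (𝒰.X i)).hom) ≫ (Scheme.isoSpec (𝒰.X i)).inv ≫ 𝒰.f i = pullback.fst _ _ ≫ _
    rw [Category.assoc, Iso.hom_inv_id_assoc, pullback.condition]
  have hpf : lift (pf ≫ fst _ _) qT ≫ ThetaS.Line R ◁ inc = pf := by
    rw [lift_whiskerLeft, hq, lift_comp_fst_snd]
  have := congr_arg (fun w => lift (pf ≫ fst _ _) qT ≫ w) hi
  simp only [← Category.assoc, hpf] at this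
  exact congr_arg CommaMorphism.left this

/-- The inclusion `G_m → A¹` is equivariant. -/
theorem jLine_equivariant {Z : Over (Spec (CommRingCat.of R))} (g h : Z ⟶ ThetaS.Gm R) :
    lift g (h ≫ jLine R) ≫ (ThetaS.lineAction R).act = (g * h) ≫ jLine R := by
  have e : (ThetaS.Gm R ◁ jLine R) ≫ (ThetaS.lineAction R).act = μ[ThetaS.Gm R] ≫ jLine R := by
    haveI := isIso_pair (R := R) (ThetaS.Lau R) (ThetaS.Lau R)
    rw [← cancel_epi (lift (CoactBr.pt (Algebra.TensorProduct.includeLeft : ThetaS.Lau R →ₐ[R] ThetaS.Lau R ⊗[R] ThetaS.Lau R))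
      (CoactBr.pt (Algebra.TensorProduct.includeRight : ThetaS.Lau R →ₐ[R] ThetaS.Lau R ⊗[R] ThetaS.Lau R)))]
    rw [lift_whiskerLeft_assoc, ← Category.assoc (lift _ _) μ[ThetaS.Gm R] (jLine R), ← Hom.mul_def, CoactBr.pt_mul_pt,
      jLine, ← CoactBr.pt_comp, ← CoactBr.pt_comp,
      show (Algebra.TensorProduct.includeRight : ThetaS.Lau R →ₐ[R] ThetaS.Lau R ⊗[R] ThetaS.Lau R).comp
          (ThetaS.linePt (ThetaS.zPow R 1)) = ThetaS.linePt ((1 : ThetaS.Lau R) ⊗ₜ[R] ThetaS.zPow R 1) from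
        Polynomial.algHom_ext (by simp),
      ThetaS.lineAction_pt]
    congr 1
    exact Polynomial.algHom_ext (by simp [Bialgebra.comulAlgHom_apply])
  have := congr_arg (fun w => lift g h ≫ w) e
  simpa only [← Category.assoc, lift_whiskerLeft, ← Hom.mul_def] using this

variable (a : AlgGrp.Action (ThetaS.Gm R) X) (T : Over (Spec (CommRingCat.of R)))

omit [IsSeparated X.hom] in
/-- The action law on points. -/
theorem act_mul {Z : Over (Spec (CommRingCat.of R))} (g h : Z ⟶ ThetaS.Gm R) (x : Z ⟶ X) :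
    lift (g * h) x ≫ a.act = lift g (lift h x ≫ a.act) ≫ a.act := by
  rw [Hom.mul_def, ← lift_whiskerRight, Category.assoc, a.mul_act, lift_lift_associator_hom_assoc,
    lift_whiskerLeft_assoc]

omit [IsSeparated X.hom] in
/-- Equivariance on points. -/
theorem equivariant_pt {u : ThetaS.Line R ⊗ T ⟶ X}
    (hu : (α_ (ThetaS.Gm R) (ThetaS.Line R) T).inv ≫ ((ThetaS.lineAction R).act ▷ T) ≫ u = (ThetaS.Gm R ◁ u) ≫ a.act)
    {Z : Over (Spec (CommRingCat.of R))} (g : Z ⟶ ThetaS.Gm R) (l : Z ⟶ ThetaS.Line R) (t : Z ⟶ T) :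
    lift (lift g l ≫ (ThetaS.lineAction R).act) t ≫ u = lift g (lift l t ≫ u) ≫ a.act := by
  have := congr_arg (fun w => lift g (lift l t) ≫ w) hu
  simpa only [lift_lift_associator_inv_assoc, lift_whiskerRight_assoc, lift_whiskerLeft_assoc] using this

theorem equivariant_ext (u v : ThetaS.Line R ⊗ T ⟶ X)
    (hu : (α_ (ThetaS.Gm R) (ThetaS.Line R) T).inv ≫ ((ThetaS.lineAction R).act ▷ T) ≫ u = (ThetaS.Gm R ◁ u) ≫ a.act)
    (hv : (α_ (ThetaS.Gm R) (ThetaS.Line R) T).inv ≫ ((ThetaS.lineAction R).act ▷ T) ≫ v = (ThetaS.Gm R ◁ v) ≫ a.act)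
    (h : lift ((1 : T ⟶ ThetaS.Gm R) ≫ jLine R) (𝟙 T) ≫ u = lift ((1 : T ⟶ ThetaS.Gm R) ≫ jLine R) (𝟙 T) ≫ v) :
    u = v := by
  refine cancel_jLine T u v ?_
  have key : ∀ w : ThetaS.Line R ⊗ T ⟶ X,
      ((α_ (ThetaS.Gm R) (ThetaS.Line R) T).inv ≫ ((ThetaS.lineAction R).act ▷ T) ≫ w = (ThetaS.Gm R ◁ w) ≫ a.act) →
      jLine R ▷ T ≫ w = lift (fst _ _) (snd _ _ ≫ lift ((1 : T ⟶ ThetaS.Gm R) ≫ jLine R) (𝟙 T) ≫ w) ≫ a.act := by
    intro w hw
    rw [← Category.assoc (snd _ _) (lift _ _) w, comp_lift, ← equivariant_pt a T hw,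
      ← Category.assoc (snd _ _) (1 : T ⟶ ThetaS.Gm R) _, MonObj.comp_one, jLine_equivariant, _root_.mul_one, Category.comp_id]
    congr 1
  rw [key u hu, key v hv, h]

theorem equivariant_of_orbit (x : T ⟶ X) (u : ThetaS.Line R ⊗ T ⟶ X)
    (hu : jLine R ▷ T ≫ u = (ThetaS.Gm R ◁ x) ≫ a.act) :
    (α_ (ThetaS.Gm R) (ThetaS.Line R) T).inv ≫ ((ThetaS.lineAction R).act ▷ T) ≫ u = (ThetaS.Gm R ◁ u) ≫ a.act := by
  have hpt : ∀ {Z : Over (Spec (CommRingCat.of R))} (g : Z ⟶ ThetaS.Gm R) (t : Z ⟶ T),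
      lift (g ≫ jLine R) t ≫ u = lift g (t ≫ x) ≫ a.act := fun g t => by
    have := congr_arg (fun w => lift g t ≫ w) hu
    simpa only [lift_whiskerRight_assoc, lift_whiskerLeft_assoc] using this
  let e : ThetaS.Line R ⊗ (ThetaS.Gm R ⊗ T) ⟶ ThetaS.Gm R ⊗ (ThetaS.Line R ⊗ T) :=
    lift (snd _ _ ≫ fst _ _) (lift (fst _ _) (snd _ _ ≫ snd _ _))
  let e' : ThetaS.Gm R ⊗ (ThetaS.Line R ⊗ T) ⟶ ThetaS.Line R ⊗ (ThetaS.Gm R ⊗ T) :=
    lift (snd _ _ ≫ fst _ _) (lift (fst _ _) (snd _ _ ≫ snd _ _))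
  have he : e' ≫ e = 𝟙 _ := by
    simp only [e, e', comp_lift, lift_fst, lift_snd, lift_fst_assoc, lift_snd_assoc]
    exact hom_ext _ _ (by simp) (hom_ext _ _ (by simp) (by simp))
  haveI : IsSplitEpi e := ⟨⟨⟨e', he⟩⟩⟩
  rw [← cancel_epi e]
  refine cancel_jLine _ _ _ ?_
  have hje : jLine R ▷ (ThetaS.Gm R ⊗ T) ≫ e = lift (snd _ _ ≫ fst _ _) (lift (fst _ _ ≫ jLine R) (snd _ _ ≫ snd _ _)) := by
    simp only [e, comp_lift, whiskerRight_fst, whiskerRight_snd_assoc]
  simp only [← Category.assoc, hje, lift_lift_associator_inv, lift_whiskerRight, lift_whiskerLeft]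
  rw [jLine_equivariant, hpt, hpt, act_mul]

end Groth.Agent.Instab37
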