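import Mathlib.RingTheory.LocalRing.Module
import Mathlib.RingTheory.MvPolynomial.WeightedHomogeneous
import Mathlib.RingTheory.MvPolynomial.Ideal
import Mathlib.RingTheory.Localization.AtPrime.Basic
import Mathlib.RingTheory.Localization.Finiteness
import Mathlib.Algebra.Module.LocalizedModule.Basic
import Mathlib.RingTheory.LocalProperties.Projective
import Mathlib.RingTheory.Flat.Basic
import Mathlib.Algebra.Module.FinitePresentation
import Mathlib.Algebra.DirectSum.Decomposition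
import Mathlib.Algebra.GradedMulAction
import Mathlib.RingTheory.Noetherian.Basic

/-! Graded finite projective modules over a polynomial ring are graded-free locally on the base. -/

set_option autoImplicit false
universe u v

namespace Groth.Agent.Instab37

open MvPolynomial DirectSum

variable {R : Type u} [CommRing R] {n : ℕ}

set_option hygiene false in
local notation "𝐀" => MvPolynomial (Fin n) R
set_option hygiene false in
local notation "e₀" => (fun i : Fin n => (Pi.single i 1 : Fin n → ℤ))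

variable {P : Type v} [AddCommGroup P] [Module 𝐀 P] [Module R P] [IsScalarTower R 𝐀 P]
  (ℳ : (Fin n → ℤ) → Submodule R P) [DirectSum.Decomposition ℳ]
  [SetLike.GradedSMul (MvPolynomial.weightedHomogeneousSubmodule R e₀) ℳ]

/-- The degree of a monomial. -/
noncomputable def deg (s : Fin n →₀ ℕ) : Fin n → ℤ := Finsupp.weight e₀ s

theorem monomial_smul_mem (s : Fin n →₀ ℕ) (c : R) {e : Fin n → ℤ} {y : P} (hy : y ∈ ℳ e) :
    (monomial s c : 𝐀) • y ∈ ℳ (deg s + e) :=
  SetLike.GradedSMul.smul_mem (A := MvPolynomial.weightedHomogeneousSubmodule R e₀) (B := ℳ)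
    ((mem_weightedHomogeneousSubmodule R _ _ _).2 (isWeightedHomogeneous_monomial _ _ c rfl)) hy

theorem X_smul_mem (i : Fin n) {e : Fin n → ℤ} {y : P} (hy : y ∈ ℳ e) : (X i : 𝐀) • y ∈ ℳ (Pi.single i 1 + e) :=
  SetLike.GradedSMul.smul_mem (A := MvPolynomial.weightedHomogeneousSubmodule R e₀) (B := ℳ)
    ((mem_weightedHomogeneousSubmodule R _ _ _).2 (isWeightedHomogeneous_X R _ i)) hy

theorem deg_sum_nonneg (s : Fin n →₀ ℕ) : 0 ≤ ∑ i, deg s i := by
  refine Finset.sum_nonneg fun i _ => ?_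
  rw [deg, Finsupp.weight_apply, Finsupp.sum, Finset.sum_apply]
  refine Finset.sum_nonneg fun j _ => ?_
  by_cases h : i = j <;> simp [Pi.single_apply, h]

/-- Projection to a degree. -/
noncomputable def proj (d : Fin n → ℤ) : P →ₗ[R] P :=
  (ℳ d).subtype ∘ₗ DirectSum.component R (Fin n → ℤ) (fun i => ℳ i) d ∘ₗ (DirectSum.decomposeLinearEquiv ℳ).toLinearMap

theorem proj_apply (d : Fin n → ℤ) (y : P) : proj ℳ d y = (DirectSum.decompose ℳ y d : P) := rfl

theorem proj_mem (d : Fin n → ℤ) (y : P) : proj ℳ d y ∈ ℳ d := Subtype.prop _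

theorem proj_of_mem {d e : Fin n → ℤ} {y : P} (hy : y ∈ ℳ e) : proj ℳ d y = if d = e then y else 0 := by
  classical
  rw [proj_apply]
  split_ifs with h
  · subst h; rw [DirectSum.decompose_of_mem_same ℳ hy]
  · rw [DirectSum.decompose_of_mem_ne ℳ hy fun he => h he.symm]

theorem proj_smul_mem_span (d e : Fin n → ℤ) (a : 𝐀) {y : P} (hy : y ∈ ℳ e) (N : Submodule 𝐀 P) (hN : y ∈ N) :
    proj ℳ d (a • y) ∈ N := by
  induction a using MvPolynomial.induction_on' with
  | monomial s c =>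
    rw [proj_of_mem ℳ (monomial_smul_mem ℳ s c hy)]
    split_ifs with h
    · exact N.smul_mem _ hN
    · exact zero_mem _
  | add a b ha hb => rw [add_smul, map_add]; exact add_mem ha hb

theorem proj_X_smul (d : Fin n → ℤ) (j : Fin n) (y : P) :
    proj ℳ d ((X j : 𝐀) • y) = (X j : 𝐀) • proj ℳ (d - Pi.single j 1) y := by
  classical
  induction y using DirectSum.Decomposition.inductionOn ℳ with
  | zero => rw [smul_zero, map_zero, map_zero, smul_zero]
  | @homogeneous e y =>
    rw [proj_of_mem ℳ (X_smul_mem ℳ j y.2), proj_of_mem ℳ y.2]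
    by_cases h : d = Pi.single j 1 + e
    · rw [if_pos h, if_pos (by rw [h]; abel)]
    · rw [if_neg h, if_neg (fun h' => h (by rw [← h']; abel)), smul_zero]
  | add a b ha hb => rw [smul_add, map_add, map_add, ha, hb, smul_add]

include ℳ in
theorem exists_lower_bound [Module.Finite 𝐀 P] :
    ∃ B : ℤ, ∀ d : Fin n → ℤ, ∀ y ∈ ℳ d, (∑ i, d i) < B → y = 0 := by
  classical
  obtain ⟨s, hs⟩ := (inferInstance : Module.Finite 𝐀 P).fg_top
  let D : Finset (Fin n → ℤ) := s.biUnion fun g => (DirectSum.decompose ℳ g).support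
  obtain ⟨B, hB⟩ : ∃ B : ℤ, ∀ d ∈ D, B ≤ ∑ i, d i := by
    obtain ⟨B, hB⟩ := (D.finite_toSet.image fun d => ∑ i, d i).bddBelow
    exact ⟨B, fun d hd => hB ⟨d, hd, rfl⟩⟩
  refine ⟨B, fun d y hy hd => ?_⟩
  have key : ∀ z : P, ∀ e : Fin n → ℤ, (∑ i, e i) < B → proj ℳ e z = 0 := by
    intro z
    have hz : z ∈ Submodule.span 𝐀 (s : Set P) := hs ▸ Submodule.mem_top
    induction hz using Submodule.span_induction with
    | mem g hg =>
      intro e he
      by_contra h
      refine (not_le.2 he) (hB e (Finset.mem_biUnion.2 ⟨g, hg, ?_⟩))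
      rw [DFinsupp.mem_support_iff]
      exact fun h0 => h (by rw [proj_apply, h0, Submodule.coe_zero])
    | zero => intro e _; rw [map_zero]
    | add a b _ _ ha hb => intro e he; rw [map_add, ha e he, hb e he, add_zero]
    | smul a z _ hz =>
      intro e he
      induction a using MvPolynomial.induction_on' with
      | monomial t c =>
        rw [← DirectSum.sum_support_decompose ℳ z, Finset.smul_sum, map_sum]
        refine Finset.sum_eq_zero fun e' _ => ?_
        rw [proj_of_mem ℳ (monomial_smul_mem ℳ t c (Subtype.prop _))]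
        split_ifs with h
        · have hlt : (∑ i, e' i) < B := by
            rw [h, Finset.sum_congr rfl fun i _ => Pi.add_apply (deg t) e' i, Finset.sum_add_distrib] at he
            linarith [deg_sum_nonneg t]
          have := hz e' hlt
          rw [proj_apply] at this
          rw [this, smul_zero]
        · rfl
      | add a b ha hb => rw [add_smul, map_add, ha, hb, add_zero]
  have := key y d hd
  rwa [proj_of_mem ℳ hy, if_pos rfl] at this

theorem mem_idealOfVars_smul {y : P} (hy : y ∈ idealOfVars (Fin n) R • (⊤ : Submodule 𝐀 P)) :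
    ∃ z : Fin n → P, y = ∑ j, (X j : 𝐀) • z j := by
  refine Submodule.smul_induction_on hy (fun i hi z _ => ?_) fun a b ha hb => ?_
  · obtain ⟨c, hc⟩ := Ideal.mem_span_range_iff_exists_fun.1 hi
    exact ⟨fun j => c j • z, by rw [← hc, Finset.sum_smul]; exact Finset.sum_congr rfl fun j _ => by rw [smul_smul, mul_comm]⟩
  · obtain ⟨za, rfl⟩ := ha
    obtain ⟨zb, rfl⟩ := hb
    exact ⟨za + zb, by simp [smul_add, Finset.sum_add_distrib]⟩

theorem sub_C_mem (a : 𝐀) : a - C (constantCoeff a) ∈ idealOfVars (Fin n) R := by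
  have h : a - C (constantCoeff a) ∈ idealOfVars (Fin n) R ^ 1 := by
    rw [mem_pow_idealOfVars_iff']
    intro x hx
    rw [Nat.lt_one_iff, Finsupp.degree_eq_zero_iff] at hx
    simp [hx, constantCoeff_eq]
  rwa [pow_one] at h

/-- Graded Nakayama: spanning modulo the variables up to `r` implies spanning up to powers of `r`. -/
theorem exists_pow_smul_mem [Module.Finite 𝐀 P] {m : ℕ} (dg : Fin m → (Fin n → ℤ)) (f : Fin m → P)
    (hf : ∀ i, f i ∈ ℳ (dg i)) (r : R)
    (hsp : ∀ q : P, r • q ∈ Submodule.span 𝐀 (Set.range f) ⊔ idealOfVars (Fin n) R • (⊤ : Submodule 𝐀 P)) :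
    ∃ N : ℕ, ∀ q : P, (C r : 𝐀) ^ N • q ∈ Submodule.span 𝐀 (Set.range f) := by
  classical
  have hC : ∀ (k : ℕ) (y : P), (C r : 𝐀) ^ k • y = r ^ k • y := fun k y => by
    rw [← map_pow]
    exact IsScalarTower.algebraMap_smul 𝐀 (r ^ k) y
  set S := Submodule.span 𝐀 (Set.range f) with hS
  obtain ⟨B, hB⟩ := exists_lower_bound ℳ
  have key : ∀ (k : ℕ) (d : Fin n → ℤ) (y : P), y ∈ ℳ d → (∑ i, d i) < B + k → r ^ k • y ∈ S := by
    intro k
    induction k with
    | zero => intro d y hy hd; rw [hB d y hy (by simpa using hd), smul_zero]; exact zero_mem _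
    | succ k ih =>
      intro d y hy hd
      obtain ⟨s, hs, t, ht, hst⟩ := Submodule.mem_sup.1 (hsp y)
      obtain ⟨z, rfl⟩ := mem_idealOfVars_smul ht
      have h1 : proj ℳ d (r • y) = r • y := by rw [proj_of_mem ℳ ((ℳ d).smul_mem r hy), if_pos rfl]
      rw [← hst, map_add, map_sum] at h1
      rw [pow_succ, mul_smul, ← hst, ← h1, smul_add, Finset.smul_sum]
      have hps : proj ℳ d s ∈ S := by
        obtain ⟨c, rfl⟩ := Submodule.mem_span_range_iff_exists_fun 𝐀 |>.1 hs
        rw [map_sum]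
        exact sum_mem fun i _ => proj_smul_mem_span ℳ d _ (c i) (hf i) S (Submodule.subset_span ⟨i, rfl⟩)
      refine add_mem ?_ (sum_mem fun j _ => ?_)
      · rw [← hC]; exact S.smul_mem _ hps
      · rw [proj_X_smul, smul_comm]
        refine S.smul_mem _ (ih _ _ (proj_mem ℳ _ _) ?_)
        rw [Finset.sum_congr rfl fun i _ => Pi.sub_apply d (Pi.single j (1 : ℤ)) i, Finset.sum_sub_distrib]
        simp only [Finset.sum_pi_single', Finset.mem_univ, if_true]
        push_cast at hd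
        linarith
  obtain ⟨s, hs⟩ := (inferInstance : Module.Finite 𝐀 P).fg_top
  have hone : ∀ y : P, ∃ N : ℕ, (C r : 𝐀) ^ N • y ∈ S := by
    intro y
    induction y using DirectSum.Decomposition.inductionOn ℳ with
    | zero => exact ⟨0, by simp⟩
    | @homogeneous d y =>
      exact ⟨(∑ i, d i - B).toNat + 1, by rw [hC]; exact key _ d y y.2 (by push_cast; omega)⟩
    | add a b ha hb =>
      obtain ⟨Na, ha⟩ := ha
      obtain ⟨Nb, hb⟩ := hb
      refine ⟨Na + Nb, ?_⟩
      rw [smul_add]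
      refine add_mem ?_ ?_
      · rw [add_comm, pow_add, mul_smul]; exact S.smul_mem _ ha
      · rw [pow_add, mul_smul]; exact S.smul_mem _ hb
  choose N hN using hone
  refine ⟨s.sup N, fun q => ?_⟩
  have hq : q ∈ Submodule.span 𝐀 (s : Set P) := hs ▸ Submodule.mem_top
  refine (Submodule.span_le (p := S.comap (LinearMap.lsmul 𝐀 P ((C r : 𝐀) ^ s.sup N)))).2 (fun g hg => ?_) hq
  show (C r : 𝐀) ^ s.sup N • g ∈ S
  rw [← Nat.sub_add_cancel (Finset.le_sup (f := N) hg), pow_add, mul_smul]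
  exact S.smul_mem _ (hN g)

/-- Kernel step: a surjection up to `r` with kernel killed outside a prime above `p` is injective up to `r`. -/
theorem exists_kernel_killed [Module.Projective 𝐀 P] {m : ℕ} (f : Fin m → P) (r : R) (N : ℕ)
    (hN : ∀ q : P, (C r : 𝐀) ^ N • q ∈ Submodule.span 𝐀 (Set.range f)) :
    ∃ K : Fin m → (Fin m → 𝐀), (∀ i, Fintype.linearCombination 𝐀 f (K i) = 0) ∧
      ∀ c : Fin m → 𝐀, Fintype.linearCombination 𝐀 f c = 0 → (C r : 𝐀) ^ N • c = ∑ i, c i • K i := by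
  classical
  let φ : (Fin m → 𝐀) →ₗ[𝐀] P := Fintype.linearCombination 𝐀 f
  have hr : LinearMap.range φ = Submodule.span 𝐀 (Set.range f) := Fintype.range_linearCombination 𝐀 f
  let μ : P →ₗ[𝐀] LinearMap.range φ := (LinearMap.lsmul 𝐀 P ((C r : 𝐀) ^ N)).codRestrict _ fun q => hr ▸ hN q
  obtain ⟨s, hs⟩ := Module.projective_lifting_property φ.rangeRestrict μ φ.surjective_rangeRestrict
  have hs' : ∀ q, φ (s q) = (C r : 𝐀) ^ N • q := fun q => congr_arg Subtype.val (LinearMap.congr_fun hs q)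
  let e : (Fin m → 𝐀) →ₗ[𝐀] (Fin m → 𝐀) := ((C r : 𝐀) ^ N) • LinearMap.id - s ∘ₗ φ
  refine ⟨fun i => e (Pi.single i 1), fun i => ?_, fun c hc => ?_⟩
  · show φ (((C r : 𝐀) ^ N) • (Pi.single i 1) - s (φ _)) = 0
    rw [map_sub, map_smul, hs', sub_self]
  · have h1 : e c = (C r : 𝐀) ^ N • c := by
      show (C r : 𝐀) ^ N • c - s (φ c) = _
      rw [show φ c = 0 from hc, map_zero, sub_zero]
    rw [← h1]
    conv_lhs => rw [pi_eq_sum_univ' c, map_sum]
    exact Finset.sum_congr rfl fun i _ => by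
      rw [map_smul]

theorem exists_homogeneous_basis_away [Module.Finite 𝐀 P] [Module.Projective 𝐀 P] (p : PrimeSpectrum R) :
    ∃ r : R, r ∉ p.asIdeal ∧ ∃ (m : ℕ) (d : Fin m → (Fin n → ℤ)) (f : Fin m → P), (∀ i, f i ∈ ℳ (d i)) ∧
      (∀ q : P, ∃ (N : ℕ) (c : Fin m → 𝐀), (C r : 𝐀) ^ N • q = ∑ i, c i • f i) ∧
      (∀ c : Fin m → 𝐀, ∑ i, c i • f i = 0 → ∃ N : ℕ, ∀ i, (C r : 𝐀) ^ N * c i = 0) := by
  classical
  let Q : Ideal 𝐀 := p.asIdeal.comap (constantCoeff (σ := Fin n) (R := R))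
  haveI : Q.IsPrime := Ideal.IsPrime.comap _
  let AQ := Localization.AtPrime Q
  let PQ := LocalizedModule Q.primeCompl P
  let ι₀ : P →ₗ[𝐀] PQ := LocalizedModule.mkLinearMap Q.primeCompl P
  haveI : Module.Finite AQ PQ := Module.Finite.of_isLocalizedModule Q.primeCompl ι₀
  haveI : Module.Projective AQ PQ := Module.projective_of_isLocalizedModule Q.primeCompl ι₀
  haveI : Module.FinitePresentation AQ PQ := Module.finitePresentation_of_projective _ _
  let vv : (Σ d : Fin n → ℤ, ℳ d) → PQ := fun y => ι₀ (y.2 : P)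
  have hv : Submodule.span AQ (Set.range vv) = ⊤ := by
    have h0 : Submodule.span 𝐀 (Set.range fun y : (Σ d : Fin n → ℤ, ℳ d) => (y.2 : P)) = ⊤ := by
      refine eq_top_iff.2 fun q _ => ?_
      rw [← DirectSum.sum_support_decompose ℳ q]
      exact sum_mem fun d _ => Submodule.subset_span ⟨⟨d, _⟩, rfl⟩
    have := span_eq_top_of_isLocalizedModule AQ Q.primeCompl ι₀ h0
    rwa [← Set.range_comp] at this
  obtain ⟨κ, a, b, hb⟩ := Module.exists_basis_of_span_of_flat vv hv
  haveI : Finite κ := Module.Finite.finite_basis b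
  obtain ⟨m, ⟨eq⟩⟩ := Finite.exists_equiv_fin κ
  let bb := b.reindex eq
  let dg : Fin m → (Fin n → ℤ) := fun i => (a (eq.symm i)).1
  let f : Fin m → P := fun i => ((a (eq.symm i)).2 : P)
  have hf : ∀ i, f i ∈ ℳ (dg i) := fun i => Subtype.prop _
  have hbb : ∀ i, bb i = ι₀ (f i) := fun i => by simp only [bb, Module.Basis.reindex_apply, hb]; rfl
  -- generation near the prime
  have hgen : ∀ q : P, ∃ s : 𝐀, s ∉ Q ∧ s • q ∈ Submodule.span 𝐀 (Set.range f) := by
    intro q
    have hq : ι₀ q ∈ Submodule.span AQ (Set.range fun i => ι₀ (f i)) := by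
      rw [show (fun i => ι₀ (f i)) = bb from funext fun i => (hbb i).symm, bb.span_eq]; exact Submodule.mem_top
    rw [show (Set.range fun i => ι₀ (f i)) = ι₀ '' Set.range f from Set.range_comp ι₀ f,
      IsLocalization.mem_span_iff Q.primeCompl] at hq
    obtain ⟨y, hy, t, hyt⟩ := hq
    rw [← Submodule.map_span] at hy
    obtain ⟨y', hy', rfl⟩ := hy
    have h1 : (t : 𝐀) • ι₀ q = ι₀ y' := by
      rw [hyt, algebra_compatible_smul AQ (t : 𝐀), smul_smul, IsLocalization.mk'_spec', map_one, one_smul]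
    rw [← map_smul] at h1
    obtain ⟨u, hu⟩ := (IsLocalizedModule.eq_iff_exists Q.primeCompl ι₀).1 h1
    exact ⟨(u : 𝐀) * t, (u * t).2, by rw [mul_smul]; exact hu ▸ Submodule.smul_mem _ _ hy'⟩
  choose sg hsg hsg' using hgen
  obtain ⟨gs, hgs⟩ := (inferInstance : Module.Finite 𝐀 P).fg_top
  let α : 𝐀 := gs.prod sg
  have hα : α ∉ Q := fun h => by
    obtain ⟨g, -, hg⟩ := (Ideal.IsPrime.prod_mem_iff).1 h
    exact hsg g hg
  have hαq : ∀ q : P, α • q ∈ Submodule.span 𝐀 (Set.range f) := fun q => by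
    have hq : q ∈ Submodule.span 𝐀 (gs : Set P) := hgs ▸ Submodule.mem_top
    refine (Submodule.span_le (p := (Submodule.span 𝐀 (Set.range f)).comap (LinearMap.lsmul 𝐀 P α))).2
      (fun g hg => ?_) hq
    rw [SetLike.mem_coe, Submodule.mem_comap, LinearMap.lsmul_apply]
    rw [show α = (gs.erase g).prod sg * sg g from (Finset.prod_erase_mul gs sg hg).symm, mul_smul]
    exact Submodule.smul_mem _ _ (hsg' g)
  set r₁ := constantCoeff α with hr₁
  have hr₁p : r₁ ∉ p.asIdeal := hα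
  have hsp : ∀ q : P, r₁ • q ∈ Submodule.span 𝐀 (Set.range f) ⊔ idealOfVars (Fin n) R • (⊤ : Submodule 𝐀 P) := by
    intro q
    rw [← IsScalarTower.algebraMap_smul 𝐀 r₁ q, show algebraMap R 𝐀 r₁ = α - (α - C r₁) by rw [sub_sub_cancel]; rfl, sub_smul]
    exact Submodule.sub_mem _ (Submodule.mem_sup_left (hαq q))
      (Submodule.mem_sup_right (Submodule.smul_mem_smul (sub_C_mem α) Submodule.mem_top))
  obtain ⟨N₁, hN₁⟩ := exists_pow_smul_mem ℳ dg f hf r₁ hsp
  obtain ⟨K, hK0, hK⟩ := exists_kernel_killed f r₁ N₁ hN₁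
  -- the kernel dies near the prime
  have hkill : ∀ i, ∃ s : 𝐀, s ∉ Q ∧ s • K i = 0 := by
    intro i
    have h1 : ∑ j, algebraMap 𝐀 AQ (K i j) • bb j = 0 := by
      have := congr_arg ι₀ (hK0 i)
      rw [Fintype.linearCombination_apply, map_sum, map_zero] at this
      refine (Finset.sum_congr rfl fun j _ => ?_).trans this
      rw [hbb, map_smul, algebraMap_smul]
    have h2 := Fintype.linearIndependent_iff.1 bb.linearIndependent _ h1
    choose s hs using fun j => (IsLocalization.map_eq_zero_iff Q.primeCompl AQ (K i j)).1 (h2 j)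
    refine ⟨(∏ j, (s j : 𝐀)), fun h => ?_, funext fun j => ?_⟩
    · obtain ⟨j, -, hj⟩ := (Ideal.IsPrime.prod_mem_iff).1 h
      exact (s j).2 hj
    · show (∏ l, (s l : 𝐀)) * K i j = 0
      rw [← Finset.prod_erase_mul Finset.univ (fun l => (s l : 𝐀)) (Finset.mem_univ j), mul_assoc, hs j, mul_zero]
  choose tk htk htk' using hkill
  let β : 𝐀 := ∏ i, tk i
  have hβ : β ∉ Q := fun h => by
    obtain ⟨i, -, hi⟩ := (Ideal.IsPrime.prod_mem_iff).1 h
    exact htk i hi
  have hβK : ∀ c : Fin m → 𝐀, Fintype.linearCombination 𝐀 f c = 0 → β • (C r₁ : 𝐀) ^ N₁ • c = 0 := fun c hc => by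
    rw [hK c hc, Finset.smul_sum]
    refine Finset.sum_eq_zero fun i _ => ?_
    rw [smul_comm, show β • K i = 0 by
      rw [show β = (Finset.univ.erase i).prod tk * tk i from (Finset.prod_erase_mul _ tk (Finset.mem_univ i)).symm,
        mul_smul, htk' i, smul_zero], smul_zero]
  set r₂ := constantCoeff β with hr₂
  set r := r₁ * r₂ with hr
  have hrp : r ∉ p.asIdeal := fun h => (p.isPrime.mem_or_mem h).elim hr₁p hβ
  refine ⟨r, hrp, m, dg, f, hf, fun q => ?_, fun c hc => ?_⟩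
  · obtain ⟨c, hc⟩ := (Submodule.mem_span_range_iff_exists_fun 𝐀).1
      ((Submodule.span 𝐀 (Set.range f)).smul_mem ((C r₂ : 𝐀) ^ N₁) (hN₁ q))
    refine ⟨N₁, c, ?_⟩
    rw [hc, hr, map_mul, mul_pow, mul_comm, mul_smul]
  -- multiplication by `ρ` moves the kernel into `I` times itself
  let I := idealOfVars (Fin n) R
  let φ : (Fin m → 𝐀) →ₗ[𝐀] P := Fintype.linearCombination 𝐀 f
  let ρ : 𝐀 := (C r : 𝐀) ^ (N₁ + 1)
  have hρ₁ : ∀ c, φ c = 0 → ∀ j, (C r₂ : 𝐀) * ((C r₁ : 𝐀) ^ N₁ * c j) ∈ I := fun c hc j => by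
    have h1 : β * ((C r₁ : 𝐀) ^ N₁ * c j) = 0 := congr_fun (hβK c hc) j
    rw [show (C r₂ : 𝐀) = β - (β - C r₂) by rw [sub_sub_cancel], sub_mul, h1, zero_sub, neg_mem_iff]
    exact I.mul_mem_right _ (sub_C_mem β)
  let Kr := LinearMap.ker φ
  have hstep : ∀ c ∈ Kr, ((C r : 𝐀) ^ (2 * N₁ + 1)) • c ∈ I • Kr := fun c hc => by
    set c' := ((C r₂ : 𝐀) * (C r₁ : 𝐀) ^ N₁) • c with hc'
    have hker : φ c' = 0 := by rw [hc', map_smul, show φ c = 0 from hc, smul_zero]
    have h2 := hK c' hker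
    have hsum : (∑ i, c' i • K i) ∈ I • Kr := sum_mem fun i _ =>
      Submodule.smul_mem_smul (by rw [hc', Pi.smul_apply, smul_eq_mul, mul_assoc]; exact hρ₁ c hc i) (hK0 i)
    rw [← h2, hc', smul_smul] at hsum
    rw [show ((C r : 𝐀) ^ (2 * N₁ + 1)) = ((C r₂ : 𝐀) ^ (2 * N₁) * C r₁) * ((C r₁ : 𝐀) ^ N₁ * ((C r₂ : 𝐀) * (C r₁ : 𝐀) ^ N₁)) by
      rw [hr, map_mul]; ring, mul_smul]
    exact Submodule.smul_mem _ _ hsum
  have hiter : ∀ (k : ℕ), ∀ c ∈ Kr, ((C r : 𝐀) ^ (2 * N₁ + 1)) ^ k • c ∈ (I ^ k) • Kr := by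
    intro k
    induction k with
    | zero => intro c hc; simpa using hc
    | succ k ih =>
      intro c hc
      rw [pow_succ' ((C r : 𝐀) ^ (2 * N₁ + 1)) k, mul_smul]
      have h1 := ih c hc
      refine Submodule.smul_induction_on (p := fun y => ((C r : 𝐀) ^ (2 * N₁ + 1)) • y ∈ (I ^ (k + 1)) • Kr) h1
        (fun i hi z hz => ?_) fun y z hy hz => by rw [smul_add]; exact add_mem hy hz
      rw [smul_comm, pow_succ, Submodule.mul_smul]
      exact Submodule.smul_mem_smul hi (hstep z hz)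
  let k := (Finset.univ.sup fun i => (c i).totalDegree) + 1
  refine ⟨(2 * N₁ + 1) * k, fun i => ?_⟩
  have hle : (I ^ k) • Kr ≤ Submodule.comap (LinearMap.proj i) (I ^ k) :=
    Submodule.smul_le.2 fun x hx z _ => (I ^ k).mul_mem_right _ hx
  have hmem : ((C r : 𝐀) ^ (2 * N₁ + 1)) ^ k * c i ∈ I ^ k :=
    hle (hiter k c (by rw [LinearMap.mem_ker, Fintype.linearCombination_apply]; exact hc))
  rw [mem_pow_idealOfVars_iff'] at hmem
  ext x
  rw [pow_mul]
  rcases lt_or_ge (Finsupp.degree x) k with hx | hx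
  · rw [hmem x hx, coeff_zero]
  · rw [← map_pow, ← map_pow, coeff_C_mul, coeff_zero, coeff_eq_zero_of_totalDegree_lt, mul_zero]
    refine lt_of_lt_of_le (Nat.lt_succ_of_le (Finset.le_sup (f := fun i => (c i).totalDegree) (Finset.mem_univ i))) ?_
    exact hx

end Groth.Agent.Instab37
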