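import Groth.Agent.Instab37.GmFamily
import Groth.Agent.SpPts86.SmoothSection
import Mathlib.AlgebraicGeometry.Morphisms.UniversallyOpen
import Mathlib.AlgebraicGeometry.Morphisms.Etale
import Mathlib.AlgebraicGeometry.Limits
import Mathlib.Topology.Connected.Basic

/-! A family of one-parameter subgroups over a connected base is étale-locally conjugate to a constant one. -/

set_option autoImplicit false
universe u

open CategoryTheory MonoidalCategory CartesianMonoidalCategory MonObj GrpObj AlgebraicGeometry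
open Groth.Agent.RedPts82

namespace Groth.Agent.Instab37

noncomputable section

variable {k : Type u} [Field k] {G : Over (Spec (CommRingCat.of k))} [GrpObj G] [Smooth G.hom] [IsAffineHom G.hom]

theorem exists_point_over {B : Scheme.{u}} {C₁ C₂ T : Over B} (a : C₁ ⟶ T) (b : C₂ ⟶ T) (p₁ : C₁.left) (p₂ : C₂.left)
    (h : a.left p₁ = b.left p₂) :
    ∃ (Y : Over B) (z₁ : Y ⟶ C₁) (z₂ : Y ⟶ C₂) (_ : Y.left), z₁ ≫ a = z₂ ≫ b := by
  obtain ⟨q, -, -⟩ := Scheme.Pullback.exists_preimage_pullback (f := a.left) (g := b.left) p₁ p₂ h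
  refine ⟨Over.mk (Limits.pullback.fst a.left b.left ≫ C₁.hom), Over.homMk (Limits.pullback.fst _ _) rfl,
    Over.homMk (Limits.pullback.snd a.left b.left) ?_, q, Over.OverMorphism.ext Limits.pullback.condition⟩
  show Limits.pullback.snd a.left b.left ≫ C₂.hom = Limits.pullback.fst a.left b.left ≫ C₁.hom
  rw [← Over.w a, ← Over.w b, Limits.pullback.condition_assoc]

theorem exists_etale_conj {S : Scheme.{u}} (f : S ⟶ Spec (CommRingCat.of k)) [ConnectedSpace ↥S]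
    (lam : Red.Gm (Spec (CommRingCat.of k)) ⟶ G) [IsMonHom lam]
    (φ : Red.bc f (Red.Gm (Spec (CommRingCat.of k))) ⟶ Red.bc f G) [IsMonHom φ]
    (s : Spec (CommRingCat.of k) ⟶ S) (hs : s ≫ f = 𝟙 _) (g₀ : Over.mk s ⟶ Red.bc f G)
    (h₀ : fst (Red.bc f (Red.Gm (Spec (CommRingCat.of k)))) (Over.mk s) ≫ φ =
      (snd _ _ ≫ g₀) * (fst _ _ ≫ (Over.pullback f).map lam) * (snd _ _ ≫ g₀)⁻¹) :
    ∃ (S' : Over S), Etale S'.hom ∧ Surjective S'.hom ∧ ∃ g : S' ⟶ Red.bc f G,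
      fst (Red.bc f (Red.Gm (Spec (CommRingCat.of k)))) S' ≫ φ =
        (snd _ _ ≫ g) * (fst _ _ ≫ (Over.pullback f).map lam) * (snd _ _ ≫ g)⁻¹ := by
  classical
  let T : Over (Spec (CommRingCat.of k)) := Over.mk f
  obtain ⟨Φ, hΦ, hΦ'⟩ := exists_fam (G := G) T φ
  let Λ : T ⊗ Red.Gm (Spec (CommRingCat.of k)) ⟶ G := snd _ _ ≫ lam
  have hΛ : IsFam Λ := fun b p q => by simp only [Λ, lift_snd_assoc, MonObj.mul_comp]
  obtain ⟨C₀, c₀, γ₀, hc₀, hconj₀, huniv₀⟩ := exists_transporter Λ Φ hΛ hΦ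
  haveI := hc₀
  let U : Set S := Set.range c₀.left
  have hUo : IsOpen U := c₀.left.isOpenMap.isOpen_range
  have hU : ∀ {Y : Over (Spec (CommRingCat.of k))} (b : Y ⟶ T) (g : Y ⟶ G) (q : Y.left),
      Conj Λ Φ b b g → b.left q ∈ U := fun {Y} b g q hg => by
    obtain ⟨z, rfl⟩ := huniv₀ Y b g hg
    exact ⟨z.left q, rfl⟩
  have hsU : ∃ x, x ∈ U := by
    obtain ⟨q⟩ := (inferInstance : Nonempty (PrimeSpectrum k))
    refine ⟨_, hU (Y := (Over.map f).obj (Over.mk s)) (ptT T (Over.mk s)) (toBase f g₀) q ?_⟩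
    intro Y' y p
    obtain ⟨Z, e, -, he, hy, hp⟩ := exists_section (y ≫ ptT T (Over.mk s))
    obtain ⟨x, hx⟩ := hy y rfl
    obtain ⟨h, hh⟩ := hp p
    have h1 := congrArg (fun w => e ≫ toBase T.hom (lift h x ≫ w)) h₀
    simp only [← Category.assoc, lift_fst, MonObj.comp_mul, GrpObj.comp_inv] at h1
    rw [← hΦ', comp_lift_assoc, he, hh] at h1
    simp only [T, Over.mk_hom, toBase_mul, toBase_inv, toBase_comp_map, MonObj.comp_mul, GrpObj.comp_inv] at h1
    simp only [Λ, lift_snd_assoc]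
    rw [h1, toBase_comp]
    erw [lift_snd]
    simp only [T, Over.mk_hom] at hx hh
    rw [← Category.assoc e _ (toBase f g₀), hx, ← Category.assoc e _ lam, hh]
  have hclosed : IsClosed U := by
    rw [← isOpen_compl_iff, isOpen_iff_forall_mem_open]
    intro x hx
    let K : Over (Spec (CommRingCat.of k)) := Over.mk (S.fromSpecResidueField x ≫ f)
    let bx : K ⟶ T := Over.homMk (S.fromSpecResidueField x) rfl
    let Φ₁ : (T ⊗ K) ⊗ Red.Gm (Spec (CommRingCat.of k)) ⟶ G := (fst T K ▷ Red.Gm _) ≫ Φ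
    let Φ₂ : (T ⊗ K) ⊗ Red.Gm (Spec (CommRingCat.of k)) ⟶ G := ((snd T K ≫ bx) ▷ Red.Gm _) ≫ Φ
    obtain ⟨C₁, c₁, γ₁, hc₁, hconj₁, huniv₁⟩ := exists_transporter Φ₁ Φ₂ (isFam_comp _ hΦ) (isFam_comp _ hΦ)
    haveI := hc₁
    let δ : K ⟶ T ⊗ K := lift bx (𝟙 K)
    obtain ⟨z, hz⟩ := huniv₁ K δ 1 fun Y' y p => by
      simp only [Φ₁, Φ₂, δ, lift_whiskerRight_assoc, Category.assoc, lift_fst, lift_snd_assoc, Category.id_comp,
        MonObj.comp_one, inv_one, _root_.one_mul, _root_.mul_one]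
    haveI : UniversallyOpen K.hom := inferInstanceAs (UniversallyOpen (S.fromSpecResidueField x ≫ f))
    have hfst : IsOpenMap (fst T K).left := by
      have : UniversallyOpen (Limits.pullback.fst T.hom K.hom) := inferInstance
      exact (Limits.pullback.fst T.hom K.hom).isOpenMap
    refine ⟨(fst T K).left '' Set.range c₁.left, ?_, hfst _ c₁.left.isOpenMap.isOpen_range, ?_⟩
    · rintro t ⟨_, ⟨p₁, rfl⟩, rfl⟩ ⟨p₀, hp₀⟩
      obtain ⟨Y, z₁, z₀, q, hzz⟩ := exists_point_over (c₁ ≫ fst T K) c₀ p₁ p₀ hp₀.symm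
      apply hx
      have A₀ := hconj₀.comp z₀
      have A₁ := hconj₁.comp z₁
      have A₂ : Conj Φ Φ (z₁ ≫ c₁ ≫ fst T K) (z₁ ≫ c₁ ≫ snd T K ≫ bx) (z₁ ≫ γ₁) := fun Y' y p => by
        have := A₁ Y' y p
        simp only [Φ₁, Φ₂, lift_whiskerRight_assoc, Category.assoc] at this
        exact this
      have A₃ : Conj Λ Φ (z₀ ≫ c₀) (z₁ ≫ c₁ ≫ snd T K ≫ bx) ((z₁ ≫ γ₁) * (z₀ ≫ γ₀)) :=
        A₀.trans (hzz ▸ A₂)
      have A₄ : Conj Λ Φ (z₁ ≫ c₁ ≫ snd T K ≫ bx) (z₁ ≫ c₁ ≫ snd T K ≫ bx) ((z₁ ≫ γ₁) * (z₀ ≫ γ₀)) :=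
        fun Y' y p => by simpa only [Λ, lift_snd_assoc] using A₃ Y' y p
      have e : (z₁ ≫ c₁ ≫ snd T K ≫ bx).left q = x := Scheme.fromSpecResidueField_apply x _
      exact e ▸ hU _ _ q A₄
    · obtain ⟨q⟩ := (inferInstance : Nonempty (PrimeSpectrum (S.residueField x)))
      refine ⟨δ.left q, ⟨z.left q, ?_⟩, ?_⟩
      · rw [← hz]; rfl
      · show (δ ≫ fst T K).left q = x
        rw [show δ ≫ fst T K = bx from lift_fst _ _]
        exact Scheme.fromSpecResidueField_apply x q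
  have huniv : U = Set.univ := IsClopen.eq_univ ⟨hclosed, hUo⟩ hsU
  have hsec : ∀ x : S, ∃ (S' : Scheme.{u}) (a : S' ⟶ S) (s' : S'), Etale a ∧ a s' = x ∧
      ∃ h : S' ⟶ C₀.left, h ≫ c₀.left = a := by
    intro x
    obtain ⟨y, hy⟩ : x ∈ U := huniv ▸ Set.mem_univ x
    obtain ⟨S', a, s', ha, hs', h⟩ := SpPts86.exists_etale_section c₀.left y
    exact ⟨S', a, s', ha, hs'.trans hy, h⟩
  choose S' a s' ha hs' h hh using hsec
  let V : Over S := Over.mk (Limits.Sigma.desc a)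
  let hV : V.left ⟶ C₀.left := Limits.Sigma.desc h
  have hVc : hV ≫ c₀.left = V.hom := Limits.Sigma.hom_ext _ _ fun x => by
    simp [hV, V, hh x]
  let zC : (Over.map f).obj V ⟶ C₀ := Over.homMk hV (by
    show hV ≫ C₀.hom = V.hom ≫ f
    rw [← hVc, Category.assoc]
    exact congrArg (hV ≫ ·) (Over.w c₀).symm)
  haveI : IsZariskiLocalAtSource (@Etale : MorphismProperty Scheme.{u}) :=
    HasRingHomProperty.instIsZariskiLocalAtSource
  refine ⟨V, IsZariskiLocalAtSource.sigmaDesc (P := @Etale.{u}) ha, ⟨fun x => ?_⟩, ofBase f (zC ≫ γ₀), ?_⟩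
  · refine ⟨(Limits.Sigma.ι S' x) (s' x), ?_⟩
    rw [← Scheme.Hom.comp_apply]
    show (Limits.Sigma.ι S' x ≫ Limits.Sigma.desc a) (s' x) = x
    rw [Limits.Sigma.ι_desc, hs']
  · have hpt : zC ≫ c₀ = ptT T V := Over.OverMorphism.ext hVc
    apply toBase_injective f
    have := hconj₀.comp zC _ ((Over.map f).map (snd (Red.bc f (Red.Gm (Spec (CommRingCat.of k)))) V))
      (toBase f (fst (Red.bc f (Red.Gm (Spec (CommRingCat.of k)))) V))
    simp only [Λ, hpt, lift_snd_assoc] at this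
    simp only [toBase_mul, toBase_inv, toBase_comp_map]
    rw [toBase_comp f _ (ofBase f (zC ≫ γ₀)), toBase_ofBase, this]
    erw [map_comp_ptT (T := T)]
    exact (hΦ' _ _).symm

end

end Groth.Agent.Instab37
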