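import Mathlib.AlgebraicGeometry.ValuativeCriterion
import Mathlib.AlgebraicGeometry.Morphisms.FiniteType
import Mathlib.Order.Filter.Ultrafilter.Basic
import Mathlib.Topology.Sober

/-! Locally of finite presentation, valuative criterion and finitely many components imply quasi-compact. -/

set_option autoImplicit false
universe u

namespace Groth.Agent.Instab37

open CategoryTheory AlgebraicGeometry IsLocalRing

/-- Quasi-compactness of the space of valuation rings of a field containing a given subring. -/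
theorem exists_finset_valuationSubring {K : Type u} [Field K] {ι : Type*} (A : Set K) (S : ι → Finset K)
    (h : ∀ V : ValuationSubring K, A ⊆ (V : Set K) → ∃ i, (S i : Set K) ⊆ (V : Set K)) :
    ∃ t : Finset ι, ∀ V : ValuationSubring K, A ⊆ (V : Set K) → ∃ i ∈ t, (S i : Set K) ⊆ (V : Set K) := by
  classical
  by_contra hc
  push Not at hc
  choose Vt hA hVt using hc
  obtain ⟨𝒰, h𝒰⟩ := Ultrafilter.exists_le (Filter.atTop : Filter (Finset ι))
  let V : ValuationSubring K :=
    { carrier := {x | ∀ᶠ t in (𝒰 : Filter (Finset ι)), x ∈ Vt t}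
      one_mem' := Filter.Eventually.of_forall fun t => (Vt t).one_mem
      zero_mem' := Filter.Eventually.of_forall fun t => (Vt t).zero_mem
      mul_mem' := fun hx hy => (hx.and hy).mono fun t ht => (Vt t).mul_mem _ _ ht.1 ht.2
      add_mem' := fun hx hy => (hx.and hy).mono fun t ht => (Vt t).add_mem _ _ ht.1 ht.2
      neg_mem' := fun hx => hx.mono fun t ht => (Vt t).neg_mem _ ht
      mem_or_inv_mem' := fun x => by
        have : ∀ᶠ t in (𝒰 : Filter (Finset ι)), x ∈ Vt t ∨ x⁻¹ ∈ Vt t :=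
          Filter.Eventually.of_forall fun t => (Vt t).mem_or_inv_mem x
        exact Ultrafilter.eventually_or.1 this }
  obtain ⟨i, hi⟩ := h V fun a ha => Filter.Eventually.of_forall fun t => hA t ha
  have h1 : ∀ᶠ t in (𝒰 : Filter (Finset ι)), ∀ x ∈ S i, x ∈ Vt t :=
    (S i).eventually_all.2 fun x hx => hi hx
  have h2 : ∀ᶠ t in (𝒰 : Filter (Finset ι)), i ∈ t :=
    h𝒰 (Filter.eventually_atTop.2 ⟨{i}, fun t ht => ht (Finset.mem_singleton_self i)⟩)
  obtain ⟨t, ht, hti⟩ := (h1.and h2).exists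
  exact hVt t i hti fun x hx => ht x hx

variable {X Y : Scheme.{u}} (f : X ⟶ Y)

/-- Evaluation of sections at a point. -/
noncomputable def ev {W : X.Opens} {η : X} (hη : η ∈ W) : Γ(X, W) ⟶ X.residueField η :=
  X.presheaf.germ W η hη ≫ X.residue η

theorem SpecMap_ev_fromSpec {W : X.Opens} (hW : IsAffineOpen W) {η : X} (hη : η ∈ W) :
    Spec.map (ev hη) ≫ hW.fromSpec = X.fromSpecResidueField η := by
  rw [Scheme.fromSpecResidueField, ← hW.fromSpecStalk_eq_fromSpecStalk hη, IsAffineOpen.fromSpecStalk, ev, Spec.map_comp,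
    Category.assoc]

theorem isCompact_preimage (hf : ValuativeCriterion f) [LocallyOfFiniteType f]
    (hX : (irreducibleComponents ↥X).Finite) {U : Y.Opens} (hU : IsAffineOpen U) : IsCompact ((f ⁻¹ᵁ U : X.Opens) : Set X) := by
  classical
  have key : ∀ η : X, ∀ hηU : η ∈ f ⁻¹ᵁ U, ∃ T : Finset {W : X.Opens // IsAffineOpen W ∧ W ≤ f ⁻¹ᵁ U},
      ∀ x : X, x ∈ f ⁻¹ᵁ U → η ⤳ x → ∃ W ∈ T, x ∈ W.1 := by
    intro η hηU
    let K := X.residueField η
    let ρU : Γ(Y, U) ⟶ K := f.app U ≫ ev hηU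
    let J := {W : X.Opens // IsAffineOpen W ∧ W ≤ f ⁻¹ᵁ U ∧ η ∈ W}
    have happ : ∀ W : J, f.appLE U W.1 W.2.2.1 ≫ ev W.2.2.2 = ρU := fun W => by
      simp only [ρU, ev, Scheme.Hom.appLE, Category.assoc]
      rw [TopCat.Presheaf.germ_res_assoc]
    have hgen : ∀ W : J, ∃ s : Finset K, ∀ V : ValuationSubring K, Set.range ρU.hom ⊆ (V : Set K) →
        (((s : Set K) ⊆ (V : Set K)) ↔ Set.range (ev W.2.2.2).hom ⊆ (V : Set K)) := by
      intro W
      letI : Algebra Γ(Y, U) Γ(X, W.1) := (f.appLE U W.1 W.2.2.1).hom.toAlgebra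
      haveI : Algebra.FiniteType Γ(Y, U) Γ(X, W.1) := f.finiteType_appLE hU W.2.1 W.2.2.1
      obtain ⟨s, hs⟩ := Algebra.FiniteType.out (R := Γ(Y, U)) (A := Γ(X, W.1))
      refine ⟨s.image (ev W.2.2.2).hom, fun V hV => ⟨fun h => ?_, fun h => ?_⟩⟩
      · rintro _ ⟨b, rfl⟩
        have hb : b ∈ Algebra.adjoin Γ(Y, U) (s : Set Γ(X, W.1)) := hs ▸ Algebra.mem_top
        induction hb using Algebra.adjoin_induction with
        | mem x hx => exact h (Finset.mem_coe.2 (Finset.mem_image_of_mem _ hx))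
        | algebraMap r => exact hV ⟨r, (ConcreteCategory.congr_hom (happ W) r).symm⟩
        | add x y _ _ hx hy => rw [map_add]; exact V.add_mem _ _ hx hy
        | mul x y _ _ hx hy => rw [map_mul]; exact V.mul_mem _ _ hx hy
      · intro k hk
        obtain ⟨b, -, rfl⟩ := Finset.mem_image.1 (Finset.mem_coe.1 hk)
        exact h ⟨b, rfl⟩
    choose S hS using hgen
    let incl : ∀ V : ValuationSubring K, CommRingCat.of V ⟶ K := fun V => CommRingCat.ofHom (algebraMap V K)
    let res : ∀ (V : ValuationSubring K) {B : CommRingCat.{u}} (φ : B ⟶ K), Set.range φ.hom ⊆ (V : Set K) → (B ⟶ CommRingCat.of V) :=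
      fun V _ φ hφ => CommRingCat.ofHom (φ.hom.codRestrict V.toSubring fun b => hφ ⟨b, rfl⟩)
    have hres : ∀ (V : ValuationSubring K) {B : CommRingCat.{u}} (φ : B ⟶ K) (hφ : Set.range φ.hom ⊆ (V : Set K)),
        res V φ hφ ≫ incl V = φ := fun V _ φ hφ => rfl
    have hsq : ∀ (V : ValuationSubring K) (hV : Set.range ρU.hom ⊆ (V : Set K)), CommSq (X.fromSpecResidueField η)
        (Spec.map (incl V)) f (Spec.map (res V ρU hV) ≫ hU.fromSpec) := by
      intro V hV
      refine ⟨?_⟩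
      obtain ⟨_, ⟨W, hW, rfl⟩, hηW, hWU⟩ := X.isBasis_affineOpens.exists_subset_of_mem_open hηU (f ⁻¹ᵁ U).2
      replace hW : IsAffineOpen W := hW
      rw [← SpecMap_ev_fromSpec hW hηW, Category.assoc, ← IsAffineOpen.SpecMap_appLE_fromSpec f hU hW hWU,
        ← Spec.map_comp_assoc, ← Spec.map_comp_assoc, hres, happ ⟨W, hW, hWU, hηW⟩]
    let sq : ∀ (V : ValuationSubring K), Set.range ρU.hom ⊆ (V : Set K) → ValuativeCommSq f := fun V hV =>
      { R := V, K := K, i₁ := X.fromSpecResidueField η, i₂ := Spec.map (res V ρU hV) ≫ hU.fromSpec, commSq := hsq V hV }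
    let lW : ∀ (V : ValuationSubring K) (hV : Set.range ρU.hom ⊆ (V : Set K)) (W : J) (hWV : Set.range (ev W.2.2.2).hom ⊆ (V : Set K)),
        (sq V hV).commSq.LiftStruct := fun V hV W hWV =>
      { l := Spec.map (res V (ev W.2.2.2) hWV) ≫ W.2.1.fromSpec
        fac_left := by
          show Spec.map (incl V) ≫ Spec.map (res V (ev W.2.2.2) hWV) ≫ W.2.1.fromSpec = X.fromSpecResidueField η
          rw [← Spec.map_comp_assoc, hres]
          exact SpecMap_ev_fromSpec W.2.1 W.2.2.2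
        fac_right := by
          show (Spec.map (res V (ev W.2.2.2) hWV) ≫ W.2.1.fromSpec) ≫ f = Spec.map (res V ρU hV) ≫ hU.fromSpec
          rw [Category.assoc, ← IsAffineOpen.SpecMap_appLE_fromSpec f hU W.2.1 W.2.2.1, ← Spec.map_comp_assoc]
          congr 2
          refine CommRingCat.hom_ext (RingHom.ext fun r => Subtype.ext ?_)
          exact ConcreteCategory.congr_hom (happ W) r }
    let cl : ∀ V : ValuationSubring K, Spec (CommRingCat.of V) := fun V => closedPoint V
    have hcov : ∀ V : ValuationSubring K, Set.range ρU.hom ⊆ (V : Set K) → ∃ W : J, (S W : Set K) ⊆ (V : Set K) := by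
      intro V hV
      obtain ⟨l, hl1, hl2⟩ : ∃ l : Spec (CommRingCat.of V) ⟶ X, Spec.map (incl V) ≫ l = X.fromSpecResidueField η ∧
          l ≫ f = Spec.map (res V ρU hV) ≫ hU.fromSpec := by
        obtain ⟨⟨l, hl1, hl2⟩⟩ := (hf.existence (sq V hV)).exists_lift
        exact ⟨l, hl1, hl2⟩
      let x : X := l (cl V)
      have hxU : x ∈ f ⁻¹ᵁ U := by
        show f (l (cl V)) ∈ U
        rw [← Scheme.Hom.comp_apply, hl2]
        have h := Set.mem_range_self (f := hU.fromSpec) (Spec.map (res V ρU hV) (cl V))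
        rw [IsAffineOpen.range_fromSpec] at h
        exact h
      obtain ⟨_, ⟨W, hW, rfl⟩, hxW, hWU⟩ := X.isBasis_affineOpens.exists_subset_of_mem_open hxU (f ⁻¹ᵁ U).2
      replace hW : IsAffineOpen W := hW
      have hlW : Set.range l ⊆ (W : Set X) := by
        rintro _ ⟨p, rfl⟩
        exact ((specializes_closedPoint p).map l.continuous).mem_open W.2 hxW
      have hηW : η ∈ W := by
        let q : Spec (CommRingCat.of K) := closedPoint K
        have h1 : (Spec.map (incl V) ≫ l) q = η := by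
          rw [hl1]; exact Scheme.fromSpecResidueField_apply η q
        rw [Scheme.Hom.comp_apply] at h1
        exact h1 ▸ hlW ⟨_, rfl⟩
      obtain ⟨φ, hφ⟩ := Spec.map_surjective (IsOpenImmersion.lift hW.fromSpec l (by rw [IsAffineOpen.range_fromSpec]; exact hlW))
      refine ⟨⟨W, hW, hWU, hηW⟩, (hS _ V hV).2 ?_⟩
      have : φ ≫ incl V = ev hηW := by
        apply Spec.map_injective
        rw [← cancel_mono hW.fromSpec, SpecMap_ev_fromSpec hW hηW, Spec.map_comp, Category.assoc, hφ, IsOpenImmersion.lift_fac]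
        exact hl1
      rintro _ ⟨b, rfl⟩
      rw [← this]
      exact (φ.hom b).2
    obtain ⟨T, hT⟩ := exists_finset_valuationSubring (Set.range ρU.hom) S hcov
    refine ⟨T.image fun W => ⟨W.1, W.2.1, W.2.2.1⟩, fun x hxU hηx => ?_⟩
    let ψ : X.presheaf.stalk x ⟶ K := X.presheaf.stalkSpecializes hηx ≫ X.residue η
    obtain ⟨V, hψV, hloc⟩ := exists_factor_valuationRing ψ.hom
    obtain ⟨_, ⟨W₁, hW₁, rfl⟩, hxW₁, hW₁U⟩ := X.isBasis_affineOpens.exists_subset_of_mem_open hxU (f ⁻¹ᵁ U).2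
    replace hW₁ : IsAffineOpen W₁ := hW₁
    let W₁' : J := ⟨W₁, hW₁, hW₁U, hηx.mem_open W₁.2 hxW₁⟩
    have hev : ev W₁'.2.2.2 = X.presheaf.germ W₁ x hxW₁ ≫ ψ := by
      simp only [ev, ψ, TopCat.Presheaf.germ_stalkSpecializes_assoc]
      rfl
    have hW₁V : Set.range (ev W₁'.2.2.2).hom ⊆ (V : Set K) := by
      rw [hev]; rintro _ ⟨b, rfl⟩; exact hψV _
    have hV : Set.range ρU.hom ⊆ (V : Set K) := by
      rw [← happ W₁']; rintro _ ⟨b, rfl⟩; exact hW₁V ⟨_, rfl⟩
    obtain ⟨W, hWT, hWV⟩ := hT V hV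
    refine ⟨_, Finset.mem_image_of_mem _ hWT, ?_⟩
    haveI := hf.uniqueness (sq V hV)
    have heq := congr_arg CommSq.LiftStruct.l (Subsingleton.elim (lW V hV W ((hS W V hV).1 hWV)) (lW V hV W₁' hW₁V))
    have hx : (lW V hV W₁' hW₁V).l (cl V) = x := by
      show (Spec.map (res V (ev W₁'.2.2.2) hW₁V) ≫ hW₁.fromSpec) (cl V) = x
      have e : res V (ev W₁'.2.2.2) hW₁V = X.presheaf.germ W₁ x hxW₁ ≫ res V ψ (Set.range_subset_iff.2 hψV) := by
        refine CommRingCat.hom_ext (RingHom.ext fun b => Subtype.ext ?_)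
        exact ConcreteCategory.congr_hom hev b
      rw [e, Spec.map_comp, Category.assoc]
      change (Spec.map _ ≫ hW₁.fromSpecStalk hxW₁) (cl V) = x
      rw [Scheme.Hom.comp_apply]
      have hc : Spec.map (res V ψ (Set.range_subset_iff.2 hψV)) (cl V) =
          closedPoint (X.presheaf.stalk x) := @comap_closedPoint _ _ _ _ _ _ _ hloc
      rw [hc, IsAffineOpen.fromSpecStalk_closedPoint]
    rw [← hx, ← heq]
    have h := Set.mem_range_self (f := W.2.1.fromSpec) (Spec.map (res V (ev W.2.2.2) ((hS W V hV).1 hWV)) (cl V))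
    rw [IsAffineOpen.range_fromSpec] at h
    exact h
  have hgp : ∀ Z ∈ irreducibleComponents ↥X, ∃ η : X, IsGenericPoint η Z := fun Z hZ =>
    QuasiSober.sober hZ.1 (isClosed_of_mem_irreducibleComponents Z hZ)
  choose g hg using hgp
  choose T hT using key
  haveI : Finite (irreducibleComponents ↥X) := hX.to_subtype
  let G : (irreducibleComponents ↥X) → Finset {W : X.Opens // IsAffineOpen W ∧ W ≤ f ⁻¹ᵁ U} := fun Z =>
    if h : g Z.1 Z.2 ∈ f ⁻¹ᵁ U then T _ h else ∅
  have e : ((f ⁻¹ᵁ U : X.Opens) : Set X) = ⋃ Z : irreducibleComponents ↥X, ⋃ W ∈ G Z, (W.1 : Set X) := by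
    refine Set.Subset.antisymm (fun x hx => ?_) (Set.iUnion_subset fun Z => Set.iUnion₂_subset fun W _ => W.2.2)
    let Z : irreducibleComponents ↥X := ⟨irreducibleComponent x, irreducibleComponent_mem_irreducibleComponents x⟩
    have hsp : g Z.1 Z.2 ⤳ x := (hg Z.1 Z.2).specializes mem_irreducibleComponent
    have hgU : g Z.1 Z.2 ∈ f ⁻¹ᵁ U := hsp.mem_open (f ⁻¹ᵁ U).2 hx
    obtain ⟨W, hW, hxW⟩ := hT _ hgU x hx hsp
    refine Set.mem_iUnion.2 ⟨Z, Set.mem_iUnion₂.2 ⟨W, ?_, hxW⟩⟩
    simp only [G]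
    rw [dif_pos hgU]
    exact hW
  rw [e]
  exact isCompact_iUnion fun Z => (G Z).finite_toSet.isCompact_biUnion fun W _ => W.2.1.isCompact

theorem quasiCompact_of_valuativeCriterion [LocallyOfFiniteType f] (hf : ValuativeCriterion f)
    (hX : (irreducibleComponents ↥X).Finite) : QuasiCompact f :=
  quasiCompact_iff_forall_isAffineOpen.2 fun _ hU => isCompact_preimage f hf hX hU

end Groth.Agent.Instab37
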